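import Mathlib
import Groth.Agent.SymGrLib.Extension

/-!
Adic completions of modules that are finite, resp. projective, modulo the powers of the ideal.
-/

set_option autoImplicit false
set_option linter.style.haveILetI false
universe u
open TensorProduct

namespace Groth.Agent.ComplKaehlerLib

variable {B : Type u} [CommRing B] (I : Ideal B)

theorem of_pi_bijective [IsAdicComplete I B] (n : ℕ) : Function.Bijective (AdicCompletion.of I (Fin n → B)) := by
  have h : ⇑(AdicCompletion.piEquivFin I n) ∘ ⇑(AdicCompletion.of I (Fin n → B)) =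
      fun x i => AdicCompletion.of I B (x i) := by
    funext x i
    rw [Function.comp_apply, AdicCompletion.piEquivFin_apply]
    refine AdicCompletion.ext fun k => ?_
    simp [AdicCompletion.pi]
    rfl
  refine (Function.Bijective.of_comp_iff' (AdicCompletion.piEquivFin I n).bijective _).1 ?_
  rw [h]
  exact Function.Bijective.piMap fun _ => AdicCompletion.of_bijective I B

variable {M : Type u} [AddCommGroup M] [Module B M]

theorem map_surjective_of_sup_eq_top {n : ℕ} (f : (Fin n → B) →ₗ[B] M) (h : LinearMap.range f ⊔ I • ⊤ = ⊤) :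
    Function.Surjective (AdicCompletion.map I f) := by
  refine AdicCompletion.map_surjective_of_mkQ_comp_surjective fun z => ?_
  obtain ⟨y, rfl⟩ := Submodule.Quotient.mk_surjective _ z
  obtain ⟨_, ⟨x, rfl⟩, w, hw, rfl⟩ := Submodule.mem_sup.1 (show y ∈ LinearMap.range f ⊔ I • ⊤ by rw [h]; trivial)
  refine ⟨x, ?_⟩
  show Submodule.Quotient.mk (f x) = _
  rw [Submodule.Quotient.eq, sub_add_cancel_left]
  exact neg_mem hw

theorem finite_adicCompletion [IsAdicComplete I B] {n : ℕ} (f : (Fin n → B) →ₗ[B] M)
    (h : LinearMap.range f ⊔ I • ⊤ = ⊤) : Module.Finite B (AdicCompletion I M) := by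
  refine Module.Finite.of_surjective (((AdicCompletion.map I f).restrictScalars B) ∘ₗ AdicCompletion.of I (Fin n → B)) ?_
  exact (map_surjective_of_sup_eq_top I f h).comp (of_pi_bijective I n).2

theorem exists_generators_mod [Module.Finite B (M ⧸ (I • ⊤ : Submodule B M))] :
    ∃ (n : ℕ) (f : (Fin n → B) →ₗ[B] M), LinearMap.range f ⊔ I • ⊤ = ⊤ := by
  obtain ⟨n, g, hg⟩ := Module.Finite.exists_fin' B (M ⧸ (I • ⊤ : Submodule B M))
  choose v hv using fun i => Submodule.Quotient.mk_surjective (I • ⊤ : Submodule B M) (g (Pi.single i 1))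
  refine ⟨n, Fintype.linearCombination B v, eq_top_iff.2 fun y _ => ?_⟩
  obtain ⟨x, hx⟩ := hg (Submodule.Quotient.mk y)
  have hcomp : (I • ⊤ : Submodule B M).mkQ ∘ₗ Fintype.linearCombination B v = g := by
    refine LinearMap.pi_ext' fun i => LinearMap.ext_ring ?_
    show Submodule.Quotient.mk (Fintype.linearCombination B v (Pi.single i 1)) = g (Pi.single i 1)
    rw [Fintype.linearCombination_apply_single, one_smul]
    exact hv i
  rw [← LinearMap.congr_fun hcomp x] at hx
  have hd : y - Fintype.linearCombination B v x ∈ (I • ⊤ : Submodule B M) :=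
    (Submodule.Quotient.eq _).1 hx.symm
  rw [show y = Fintype.linearCombination B v x + (y - Fintype.linearCombination B v x) by abel]
  exact add_mem (Submodule.mem_sup_left ⟨x, rfl⟩) (Submodule.mem_sup_right hd)

/-- If `M/I^kM` is projective for all `k` and `f : B^n → M` is bijective modulo `I`, then `f` is bijective modulo
all powers of `I`, and so on completions. -/
theorem map_bijective {n : ℕ} (f : (Fin n → B) →ₗ[B] M) (hsurj : LinearMap.range f ⊔ I • ⊤ = ⊤)
    (hinj : ∀ x, f x ∈ (I • ⊤ : Submodule B M) → x ∈ (I • ⊤ : Submodule B (Fin n → B)))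
    (hproj : ∀ k : ℕ, Module.Projective (B ⧸ I ^ k) ((B ⧸ I ^ k) ⊗[B] M)) :
    Function.Bijective (AdicCompletion.map I f) := by
  refine ⟨?_, map_surjective_of_sup_eq_top I f hsurj⟩
  have key : ∀ k x, f x ∈ (I ^ k • ⊤ : Submodule B M) → x ∈ (I ^ k • ⊤ : Submodule B (Fin n → B)) := by
    intro k x hx
    rcases Nat.eq_zero_or_pos k with rfl | hk
    · rw [pow_zero, Ideal.one_eq_top, Submodule.top_smul]; trivial
    let X := (Fin n → B) ⧸ (I ^ k • ⊤ : Submodule B (Fin n → B))
    let Y := M ⧸ (I ^ k • ⊤ : Submodule B M)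
    have hX : ∀ r ∈ I ^ k, ∀ z : X, r • z = 0 := fun r hr z => by
      obtain ⟨z, rfl⟩ := Submodule.Quotient.mk_surjective _ z
      rw [← Submodule.Quotient.mk_smul, Submodule.Quotient.mk_eq_zero]
      exact Submodule.smul_mem_smul hr trivial
    let q : X →ₗ[B] Y := Submodule.mapQ _ _ f (by
      rw [← Submodule.map_le_iff_le_comap, Submodule.map_smul'']
      exact Submodule.smul_mono le_rfl le_top)
    have hq : Function.Surjective q := by
      rw [← LinearMap.range_eq_top, eq_top_iff]
      have hgen : ∀ j : ℕ, (⊤ : Submodule B Y) ≤ LinearMap.range q ⊔ I ^ j • ⊤ := by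
        intro j
        induction j with
        | zero => rw [pow_zero, Ideal.one_eq_top, Submodule.top_smul, sup_top_eq]
        | succ j ih =>
          refine ih.trans (sup_le le_sup_left ?_)
          refine Submodule.smul_le.2 fun r hr y _ => ?_
          obtain ⟨y, rfl⟩ := Submodule.Quotient.mk_surjective _ y
          obtain ⟨_, ⟨x', rfl⟩, w, hw, rfl⟩ :=
            Submodule.mem_sup.1 (show y ∈ LinearMap.range f ⊔ I • ⊤ by rw [hsurj]; trivial)
          rw [Submodule.Quotient.mk_add, smul_add]
          refine add_mem (Submodule.mem_sup_left ⟨r • Submodule.Quotient.mk x', by rw [map_smul]; rfl⟩)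
            (Submodule.mem_sup_right ?_)
          rw [pow_succ, Submodule.mul_smul]
          refine Submodule.smul_mem_smul hr ?_
          have hw' := Submodule.mem_map_of_mem (f := (I ^ k • ⊤ : Submodule B M).mkQ) hw
          rw [Submodule.map_smul''] at hw'
          exact Submodule.smul_mono le_rfl le_top hw'
      refine (hgen k).trans (sup_le le_rfl (Submodule.smul_le.2 fun r hr y _ => ?_))
      obtain ⟨y, rfl⟩ := Submodule.Quotient.mk_surjective _ y
      rw [← Submodule.Quotient.mk_smul, (Submodule.Quotient.mk_eq_zero _).2 (Submodule.smul_mem_smul hr (Submodule.mem_top (x := y)))]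
      exact zero_mem _
    obtain ⟨r, hr⟩ := SymGrLib.exists_lift_of_projective (I ^ k) (hproj k) hX q hq (Submodule.mkQ _)
    let rb : Y →ₗ[B] X := Submodule.liftQ _ r (Submodule.smul_le.2 fun a ha z _ => LinearMap.mem_ker.2 (by
      rw [map_smul, hX a ha]))
    let E : X →ₗ[B] X := LinearMap.id - rb ∘ₗ q
    have hqr : ∀ y, q (rb y) = y := fun y => by
      obtain ⟨y, rfl⟩ := Submodule.Quotient.mk_surjective _ y
      exact LinearMap.congr_fun hr y
    have hEI : ∀ z, E z ∈ (I • ⊤ : Submodule B X) := fun z => by
      have h0 : q (E z) = 0 := by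
        show q (z - rb (q z)) = 0
        rw [map_sub, hqr, sub_self]
      obtain ⟨w, hw⟩ := Submodule.Quotient.mk_surjective _ (E z)
      rw [← hw] at h0 ⊢
      have hf : f w ∈ (I ^ k • ⊤ : Submodule B M) := (Submodule.Quotient.mk_eq_zero _).1 h0
      have h1 := Submodule.mem_map_of_mem (f := (I ^ k • ⊤ : Submodule B (Fin n → B)).mkQ)
        (hinj w (Submodule.smul_mono (Ideal.pow_le_self hk.ne') le_rfl hf))
      rw [Submodule.map_smul''] at h1
      exact Submodule.smul_mono le_rfl le_top h1
    have hxE : E (Submodule.Quotient.mk x) = Submodule.Quotient.mk x := by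
      show _ - rb (q (Submodule.Quotient.mk x)) = _
      rw [show q (Submodule.Quotient.mk x) = Submodule.Quotient.mk (f x) from rfl,
        (Submodule.Quotient.mk_eq_zero _).2 hx, map_zero, sub_zero]
      rfl
    have hj : ∀ j : ℕ, Submodule.Quotient.mk x ∈ (I ^ j • ⊤ : Submodule B X) := by
      intro j
      induction j with
      | zero => rw [pow_zero, Ideal.one_eq_top, Submodule.top_smul]; trivial
      | succ j ih =>
        have h2 := Submodule.mem_map_of_mem (f := E) ih
        rw [hxE, Submodule.map_smul''] at h2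
        rw [pow_succ, Submodule.mul_smul]
        exact Submodule.smul_mono le_rfl (by rintro _ ⟨z, -, rfl⟩; exact hEI z) h2
    have h3 : (Submodule.Quotient.mk x : X) = 0 :=
      Submodule.smul_induction_on (hj k) (fun a ha y _ => hX a ha y) fun a b ha hb => by rw [ha, hb, add_zero]
    exact (Submodule.Quotient.mk_eq_zero _).1 h3
  rw [injective_iff_map_eq_zero]
  intro z hz
  refine AdicCompletion.ext fun k => ?_
  obtain ⟨x, hx⟩ := Submodule.Quotient.mk_surjective _ (z.val k)
  have h0 : (AdicCompletion.map I f z).val k = 0 := by rw [hz]; rfl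
  rw [AdicCompletion.map_val_apply, ← hx] at h0
  rw [← hx]
  exact (Submodule.Quotient.mk_eq_zero _).2 (key k x ((Submodule.Quotient.mk_eq_zero _).1 h0))

theorem free_adicCompletion [IsAdicComplete I B] [Nontrivial B] {n : ℕ} (f : (Fin n → B) →ₗ[B] M)
    (hb : Function.Bijective (AdicCompletion.map I f)) :
    Module.Free B (AdicCompletion I M) ∧ Module.finrank B (AdicCompletion I M) = n := by
  let e : (Fin n → B) ≃ₗ[B] AdicCompletion I M :=
    LinearEquiv.ofBijective (((AdicCompletion.map I f).restrictScalars B) ∘ₗ AdicCompletion.of I (Fin n → B))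
      (hb.comp (of_pi_bijective I n))
  exact ⟨Module.Free.of_equiv e, by rw [← e.finrank_eq, Module.finrank_fin_fun]⟩

end Groth.Agent.ComplKaehlerLib
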