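import Groth.Agent.ComplKaehlerLib.Basic
import Groth.Agent.FieldExtLib.ResidueDiff
import Groth.Agent.S2471

/-!
Completed differentials of complete local algebras over a field.
-/

set_option autoImplicit false
set_option linter.style.haveILetI false
universe u
open TensorProduct IsLocalRing KaehlerDifferential

namespace Groth.Agent.ComplKaehlerLib

theorem finite_quotient_kaehler {A B : Type u} [CommRing A] [CommRing B] [Algebra A B] (𝔫 : Ideal B)
    [Module.Finite (B ⧸ 𝔫) (Ω[B ⧸ 𝔫⁄A])] [Module.Finite (B ⧸ 𝔫) 𝔫.Cotangent] :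
    Module.Finite B (Ω[B⁄A] ⧸ (𝔫 • ⊤ : Submodule B Ω[B⁄A])) := by
  haveI : Module.Finite B 𝔫.Cotangent := Module.Finite.trans (B ⧸ 𝔫) _
  haveI : Module.Finite B (Ω[B ⧸ 𝔫⁄A]) := Module.Finite.trans (B ⧸ 𝔫) _
  haveI hc : Module.Finite B (RingHom.ker (algebraMap B (B ⧸ 𝔫))).Cotangent := by
    rw [Ideal.Quotient.algebraMap_eq, Ideal.mk_ker]; infer_instance
  let π := (KaehlerDifferential.mapBaseChange A B (B ⧸ 𝔫)).restrictScalars B
  have hex := KaehlerDifferential.exact_kerCotangentToTensor_mapBaseChange A B (B ⧸ 𝔫) Ideal.Quotient.mk_surjective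
  haveI : Module.Finite B ((B ⧸ 𝔫) ⊗[B] Ω[B⁄A]) := ⟨Submodule.fg_of_fg_map_of_fg_inf_ker π
    (by
      have : Function.Surjective π := KaehlerDifferential.mapBaseChange_surjective A B (B ⧸ 𝔫) Ideal.Quotient.mk_surjective
      rw [Submodule.map_top, LinearMap.range_eq_top.2 this]
      exact Module.Finite.fg_top)
    (by
      rw [top_inf_eq]
      have : LinearMap.ker π = LinearMap.range (KaehlerDifferential.kerCotangentToTensor A B (B ⧸ 𝔫)) := by
        ext z; exact hex z
      rw [this, LinearMap.range_eq_map]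
      exact Module.Finite.fg_top.map _)⟩
  exact Module.Finite.equiv (TensorProduct.quotTensorEquivQuotSMul Ω[B⁄A] 𝔫)

theorem finite_completedKaehler {A B : Type u} [CommRing A] [CommRing B] [Algebra A B] (𝔫 : Ideal B)
    [IsAdicComplete 𝔫 B] [Module.Finite (B ⧸ 𝔫) (Ω[B ⧸ 𝔫⁄A])] [Module.Finite (B ⧸ 𝔫) 𝔫.Cotangent] :
    Module.Finite B (AdicCompletion 𝔫 Ω[B⁄A]) := by
  haveI := finite_quotient_kaehler (A := A) 𝔫
  obtain ⟨n, f, hf⟩ := exists_generators_mod (M := Ω[B⁄A]) 𝔫
  exact finite_adicCompletion 𝔫 f hf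

variable {k A : Type u} [Field k] [CommRing A] [IsLocalRing A] [Algebra k A]

theorem conormal_injective_of_field (k : Type u) [Field k] [Algebra k A] :
    Function.Injective (FieldExtLib.conormal A) := by
  let F := (⊥ : Subfield k)
  haveI : PerfectField F := Groth.Agent.S4571.perfectField_bot k
  letI : Field (A ⧸ maximalIdeal A) := Ideal.Quotient.field _
  haveI : Algebra.FormallySmooth F (A ⧸ maximalIdeal A) :=
    FieldExtLib.formallySmooth_field_of_perfectField F _
  obtain ⟨d, hadd, hmul, -, hJ, -⟩ := SymGrLib.exists_cotangent_derivation (A := F) (maximalIdeal A)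
  let D : Derivation ℤ A (CotangentSpace A) :=
    Derivation.mk' (AddMonoidHom.mk' d hadd).toIntLinearMap fun a b => hmul a b
  refine Function.LeftInverse.injective (g := D.liftKaehlerDifferential.liftBaseChange (ResidueField A)) fun c => ?_
  obtain ⟨x, rfl⟩ := (maximalIdeal A).toCotangent_surjective c
  rw [FieldExtLib.conormal_toCotangent, LinearMap.liftBaseChange_tmul, one_smul, Derivation.liftKaehlerDifferential_comp_D]
  exact hJ x

theorem finrank_residue_kaehler [IsNoetherianRing A] (h : CAlgX.IsAdicFormallySmooth k A (maximalIdeal A))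
    [Algebra.EssFiniteType k (ResidueField A)] :
    Module.Finite (ResidueField A) (ResidueField A ⊗[A] Ω[A⁄k]) ∧
      Module.finrank (ResidueField A) (ResidueField A ⊗[A] Ω[A⁄k]) =
        Module.finrank (ResidueField A) (CotangentSpace A) + Cardinal.toNat (Algebra.trdeg k (ResidueField A)) := by
  classical
  let K := ResidueField A
  have hres : Function.Surjective (algebraMap A K) := residue_surjective
  let cn : CotangentSpace A →ₗ[K] K ⊗[A] Ω[A⁄ℤ] := LinearMap.extendScalarsOfSurjective hres (FieldExtLib.conormal A)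
  have hcn : Function.Injective cn := conormal_injective_of_field k
  let P : K ⊗[A] Ω[A⁄ℤ] →ₗ[K] K ⊗[A] Ω[A⁄k] := (KaehlerDifferential.map ℤ k A A).baseChange K
  let πℤ : K ⊗[A] Ω[A⁄ℤ] →ₗ[K] Ω[K⁄ℤ] := mapBaseChange ℤ A K
  let can : K ⊗[A] (A ⊗[k] Ω[k⁄ℤ]) ≃ₗ[K] K ⊗[k] Ω[k⁄ℤ] :=
    TensorProduct.AlgebraTensorModule.cancelBaseChange k A K K Ω[k⁄ℤ]
  let ι : K ⊗[k] Ω[k⁄ℤ] →ₗ[K] K ⊗[A] Ω[A⁄ℤ] := (mapBaseChange ℤ k A).baseChange K ∘ₗ can.symm.toLinearMap
  have hι : Function.Injective ι := (Groth.Agent.S2471.result.1 h).2.comp can.symm.injective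
  have hkerP : LinearMap.ker P = LinearMap.range ι := by
    rw [LinearMap.range_comp_of_range_eq_top _ (LinearEquiv.range _)]
    ext z
    exact lTensor_exact K (exact_mapBaseChange_map ℤ k A) (map_surjective ℤ k A) z
  have hω : ∀ z, πℤ (ι z) = mapBaseChange ℤ k K z := by
    intro z
    induction z using TensorProduct.induction_on with
    | zero => simp
    | add a b ha hb => rw [map_add, map_add, map_add, ha, hb]
    | tmul c ω =>
      have hω : ω ∈ Submodule.span k (Set.range (D ℤ k)) := by rw [span_range_derivation]; trivial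
      induction hω using Submodule.span_induction with
      | mem z hz =>
        obtain ⟨x, rfl⟩ := hz
        simp only [ι, πℤ, can, LinearMap.comp_apply, LinearEquiv.coe_coe, TensorProduct.AlgebraTensorModule.cancelBaseChange_symm_tmul,
          LinearMap.baseChange_tmul, mapBaseChange_tmul, map_D, one_smul]
        rw [← IsScalarTower.algebraMap_apply k A K]
      | zero => simp
      | add a b _ _ ha hb => rw [TensorProduct.tmul_add, map_add, map_add, map_add, ha, hb]
      | smul r z _ hz => rw [TensorProduct.tmul_smul, ← algebraMap_smul K r, map_smul, map_smul, map_smul, hz]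
  have hrangecn : LinearMap.range cn = LinearMap.ker πℤ := by
    ext z; exact ((FieldExtLib.exact_conormal A) z).symm
  let u : CotangentSpace A →ₗ[K] K ⊗[A] Ω[A⁄k] := P ∘ₗ cn
  haveI : Module.Finite K (CotangentSpace A) := inferInstance
  obtain ⟨hH1fin, hH1⟩ := FieldExtLib.finrank_kaehler_eq k K
  obtain ⟨eH⟩ := FieldExtLib.nonempty_h1_equiv_imperfection k K
  have hker : Module.finrank K (LinearMap.ker u) = Module.finrank K (Algebra.H1Cotangent k K) := by
    rw [eH.finrank_eq, (Submodule.equivMapOfInjective cn hcn _).finrank_eq]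
    have heq : Submodule.map cn (LinearMap.ker u) = Submodule.map ι (EGA41.imperfection ℤ k K) := by
      rw [show LinearMap.ker u = Submodule.comap cn (LinearMap.ker P) from LinearMap.ker_comp _ _, Submodule.map_comap_eq,
        hrangecn, hkerP]
      ext z
      constructor
      · rintro ⟨hz, w, rfl⟩
        exact ⟨w, (hω w).symm.trans hz, rfl⟩
      · rintro ⟨w, hw, rfl⟩
        exact ⟨(hω w).trans hw, w, rfl⟩
    rw [heq]
    exact ((Submodule.equivMapOfInjective ι hι _).finrank_eq).symm
  let π : K ⊗[A] Ω[A⁄k] →ₗ[K] Ω[K⁄k] := mapBaseChange k A K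
  have hπ : Function.Surjective π := KaehlerDifferential.mapBaseChange_surjective k A K hres
  have hu : LinearMap.range u = LinearMap.ker π := by
    ext z
    have hex := KaehlerDifferential.exact_kerCotangentToTensor_mapBaseChange k A K hres z
    constructor
    · rintro ⟨c, rfl⟩
      obtain ⟨x, rfl⟩ := (maximalIdeal A).toCotangent_surjective c
      rw [LinearMap.mem_ker]
      simp only [u, cn, LinearMap.comp_apply, LinearMap.extendScalarsOfSurjective_apply]
      rw [FieldExtLib.conormal_toCotangent]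
      simp only [P, π, LinearMap.baseChange_tmul, map_D, mapBaseChange_tmul, one_smul, Algebra.algebraMap_self, RingHom.id_apply]
      rw [show algebraMap A K (x : A) = 0 from (residue_eq_zero_iff _).2 x.2, map_zero]
    · intro hz
      obtain ⟨c, hc⟩ := hex.1 hz
      obtain ⟨⟨x, hx⟩, rfl⟩ := Ideal.toCotangent_surjective _ c
      refine ⟨(maximalIdeal A).toCotangent ⟨x, (residue_eq_zero_iff x).1 hx⟩, ?_⟩
      simp only [u, cn, LinearMap.comp_apply, LinearMap.extendScalarsOfSurjective_apply]
      rw [FieldExtLib.conormal_toCotangent, ← hc]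
      simp only [P, LinearMap.baseChange_tmul, map_D, Algebra.algebraMap_self, RingHom.id_apply]
      rfl
  haveI : Module.Finite K (LinearMap.ker π) := by rw [← hu]; exact Module.Finite.range u
  haveI := Module.Finite.equiv (π.quotKerEquivOfSurjective hπ).symm
  haveI hfin : Module.Finite K (K ⊗[A] Ω[A⁄k]) := Module.Finite.of_submodule_quotient (LinearMap.ker π)
  refine ⟨hfin, ?_⟩
  have r1 := π.finrank_range_add_finrank_ker
  have r2 := u.finrank_range_add_finrank_ker
  rw [LinearMap.range_eq_top.2 hπ, finrank_top, ← hu] at r1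
  rw [hker] at r2
  change Module.finrank K (K ⊗[A] Ω[A⁄k]) = Module.finrank K (CotangentSpace A) + Cardinal.toNat (Algebra.trdeg k K)
  omega

theorem free_completedKaehler [IsNoetherianRing A] [IsAdicComplete (maximalIdeal A) A]
    (h : CAlgX.IsAdicFormallySmooth k A (maximalIdeal A)) [Algebra.EssFiniteType k (ResidueField A)] :
    Module.Free A (AdicCompletion (maximalIdeal A) Ω[A⁄k]) ∧
      Module.finrank A (AdicCompletion (maximalIdeal A) Ω[A⁄k]) =
        Module.finrank (ResidueField A) (CotangentSpace A) + Cardinal.toNat (Algebra.trdeg k (ResidueField A)) := by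
  have hbot := SymGrLib.isFormallySmoothAdic_bot h
  have hmap : ∃ i : ℕ, ((⊥ : Ideal k) ^ i).map (algebraMap k A) ≤ maximalIdeal A := ⟨1, by simp⟩
  classical
  let K := ResidueField A
  let m := maximalIdeal A
  obtain ⟨hfin, hr⟩ := finrank_residue_kaehler h
  let b := Module.finBasis K (K ⊗[A] Ω[A⁄k])
  let one : Ω[A⁄k] →ₗ[A] K ⊗[A] Ω[A⁄k] := TensorProduct.mk A K Ω[A⁄k] 1
  choose v hv using fun i => TensorProduct.mk_surjective A Ω[A⁄k] K residue_surjective (b i)
  let f := Fintype.linearCombination A v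
  have hone : ∀ z, one z = 0 ↔ z ∈ (m • ⊤ : Submodule A Ω[A⁄k]) := fun z => by
    let e := TensorProduct.quotTensorEquivQuotSMul Ω[A⁄k] m
    have he : e (one z) = Submodule.Quotient.mk z := by
      rw [show one z = (Ideal.Quotient.mk m 1) ⊗ₜ[A] z from rfl]
      erw [TensorProduct.quotTensorEquivQuotSMul_mk_tmul]
      rw [one_smul]
    rw [← Submodule.Quotient.mk_eq_zero, ← he]
    constructor
    · intro h; erw [h, map_zero]
    · intro h; exact e.injective (h.trans (map_zero e).symm)
  have hv' : ∀ i, one (v i) = b i := hv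
  have hof : ∀ x, one (f x) = ∑ i, algebraMap A K (x i) • b i := fun x => by
    simp [f, Fintype.linearCombination_apply, map_sum, hv', algebraMap_smul]
  have hs : LinearMap.range f ⊔ m • ⊤ = ⊤ := eq_top_iff.2 fun z _ => by
    choose c hc using fun i => residue_surjective (R := A) (b.repr (one z) i)
    have h0 : one (z - f c) = 0 := by
      rw [map_sub, hof, sub_eq_zero]
      conv_lhs => rw [← b.sum_repr (one z)]
      exact Finset.sum_congr rfl fun i _ => by rw [← hc i]; rfl
    rw [show z = f c + (z - f c) by abel]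
    exact add_mem (Submodule.mem_sup_left ⟨c, rfl⟩) (Submodule.mem_sup_right ((hone _).1 h0))
  have hi : ∀ x, f x ∈ (m • ⊤ : Submodule A Ω[A⁄k]) → x ∈ (m • ⊤ : Submodule A (Fin _ → A)) := fun x hx => by
    have h0 := (hone _).2 hx
    rw [hof] at h0
    have h1 := Fintype.linearIndependent_iff.1 b.linearIndependent _ h0
    rw [pi_eq_sum_univ x]
    exact Submodule.sum_mem _ fun i _ => Submodule.smul_mem_smul ((residue_eq_zero_iff _).1 (h1 i)) trivial
  obtain ⟨hfree, hrk⟩ := free_adicCompletion m f (map_bijective m f hs hi fun j =>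
    FSmoothAdicLib.projective_kaehler _ m hmap hbot (m ^ j) ⟨j, le_rfl⟩)
  exact ⟨hfree, hrk.trans hr⟩

end Groth.Agent.ComplKaehlerLib
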